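import Cfsg.Agent.Omega.NO3S.SN.R1.Def

/-!
# THEOREM R2 (helper695, bb #24008): the relative frame

`V` is a line on the point `z = ε (single 0 1)` (the letter `oo` is `0`), notation of `R1/Def.lean`.

* `PM V ε k = M^(k) = ⟨C_{N(V)}(z_k), X_ij : k ∉ {i,j}⟩`, `M = PM V ε 0`, `W = ⟨V^M⟩`;
* `PY V ε Γ = ⟨N(V) ∩ Y_Γ, X_ij : i, j ∈ Γ⟩`, `PU V ε Γ = ⟨V^{PY Γ}⟩`; `WI V ε i j = ⟨V^{X_ij}⟩`;
* `cε g ε` : the labels of the line `V^g`;
* `Fr V W ε` : the frame; `Fr.conj` : it holds for all lines `V^m`, `m ∈ M`;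
* `fW W A = |A| |C_W(A)|`, `At W A` : `A ≥ C_G(W)` acts on `W` as an atom; `NOv W P` : no over-offender above `C_G(W)` in `P`.
-/

set_option autoImplicit false

namespace Cfsg.Agent.Omega.NO3S.SN.RTwo

open Subgroup Cfsg Cfsg.Agent.ZN Cfsg.Agent.Omega.S5.Def
open Cfsg.Agent.Omega.NO3S.SN.R1 (Cl Cst VG YG zz)
open Cfsg.Agent.Omega.FFThm (ElemM)
open scoped Pointwise

universe u

variable {G : Type u} [Group G] {n : ℕ}

/-- `M^(k)` -/
def PM (V : Subgroup G) (ε : (Fin n → ZMod 2) → G) (k : Fin n) : Subgroup G :=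
  closure ({g | g ∈ normalizer (V : Set G) ∧ g * zz ε k * g⁻¹ = zz ε k} ∪
    {g | ∃ i j, i ≠ k ∧ j ≠ k ∧ i ≠ j ∧ g ∈ YG ε {i, j}})

/-- `Y_Γ`, relative -/
def PY (V : Subgroup G) (ε : (Fin n → ZMod 2) → G) (Γ : Finset (Fin n)) : Subgroup G :=
  closure ({g | g ∈ normalizer (V : Set G) ∧ g ∈ YG ε Γ} ∪ {g | ∃ i ∈ Γ, ∃ j ∈ Γ, i ≠ j ∧ g ∈ YG ε {i, j}})

/-- `U_Γ`, relative -/
def PU (V : Subgroup G) (ε : (Fin n → ZMod 2) → G) (Γ : Finset (Fin n)) : Subgroup G := Cl V (PY V ε Γ)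

/-- `W_ij = ⟨V^{X_ij}⟩` -/
def WI (V : Subgroup G) (ε : (Fin n → ZMod 2) → G) (i j : Fin n) : Subgroup G := Cl V (YG ε {i, j})

/-- the labels of `V^g` -/
def cε (g : G) (ε : (Fin n → ZMod 2) → G) : (Fin n → ZMod 2) → G := fun x => g * ε x * g⁻¹

/-! ### Conjugation -/

theorem mem_cj {g x : G} {A : Subgroup G} : x ∈ MulAut.conj g • A ↔ g⁻¹ * x * g ∈ A := by
  rw [mem_pointwise_smul_iff_inv_smul_mem]
  simp [MulAut.smul_def]

theorem cj_mem {g x : G} {A : Subgroup G} (h : x ∈ A) : g * x * g⁻¹ ∈ MulAut.conj g • A := by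
  rw [mem_cj]
  have h1 : g⁻¹ * (g * x * g⁻¹) * g = x := by group
  rwa [h1]

theorem cj_eq_of_mem {g : G} {A : Subgroup G} (h : g ∈ normalizer (A : Set G)) : MulAut.conj g • A = A := by
  ext x
  rw [mem_cj, mem_normalizer_iff.1 h (g⁻¹ * x * g)]
  have h1 : g * (g⁻¹ * x * g) * g⁻¹ = x := by group
  rw [h1]

theorem mem_norm_of_cj {g : G} {A : Subgroup G} (h : MulAut.conj g • A = A) : g ∈ normalizer (A : Set G) := by
  rw [mem_normalizer_iff]
  intro x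
  constructor
  · intro hx
    rw [← h]
    exact cj_mem hx
  · intro hx
    rw [← h, mem_cj] at hx
    have h1 : g⁻¹ * (g * x * g⁻¹) * g = x := by group
    rwa [h1] at hx

theorem cj_mono {g : G} {A B : Subgroup G} (h : A ≤ B) : MulAut.conj g • A ≤ MulAut.conj g • B := by
  intro x hx
  rw [mem_cj] at hx ⊢
  exact h hx

theorem cj_cj {g h : G} {A : Subgroup G} : MulAut.conj g • MulAut.conj h • A = MulAut.conj (g * h) • A := by
  rw [smul_smul, map_mul]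

theorem cj_inv_cj {g : G} {A : Subgroup G} : MulAut.conj g⁻¹ • MulAut.conj g • A = A := by
  rw [cj_cj, inv_mul_cancel, map_one, one_smul]

theorem cj_cj_inv {g : G} {A : Subgroup G} : MulAut.conj g • MulAut.conj g⁻¹ • A = A := by
  rw [cj_cj, mul_inv_cancel, map_one, one_smul]

theorem cj_normalizer (g : G) (A : Subgroup G) :
    normalizer ((MulAut.conj g • A : Subgroup G) : Set G) = MulAut.conj g • normalizer (A : Set G) := by
  ext x
  rw [mem_cj]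
  constructor
  · intro h
    have h1 := cj_eq_of_mem h
    apply mem_norm_of_cj
    rw [cj_cj] at h1
    have h2 : MulAut.conj g⁻¹ • (MulAut.conj (x * g) • A) = MulAut.conj g⁻¹ • MulAut.conj g • A := by rw [h1]
    rw [cj_cj, cj_inv_cj] at h2
    rwa [← mul_assoc] at h2
  · intro h
    have h1 := cj_eq_of_mem h
    apply mem_norm_of_cj
    rw [cj_cj]
    have h2 : MulAut.conj g • (MulAut.conj (g⁻¹ * x * g) • A) = MulAut.conj g • A := by rw [h1]
    rw [cj_cj] at h2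
    have h3 : g * (g⁻¹ * x * g) = x * g := by group
    rwa [h3] at h2

theorem cj_centralizer (g : G) (s : Set G) :
    centralizer ((fun x => g * x * g⁻¹) '' s) = MulAut.conj g • centralizer s := by
  ext x
  rw [mem_cj, mem_centralizer_iff, mem_centralizer_iff]
  constructor
  · intro h y hy
    have h1 := h _ ⟨y, hy, rfl⟩
    calc y * (g⁻¹ * x * g) = g⁻¹ * (g * y * g⁻¹ * x) * g := by group
      _ = g⁻¹ * (x * (g * y * g⁻¹)) * g := by rw [h1]
      _ = g⁻¹ * x * g * y := by group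
  · rintro h _ ⟨y, hy, rfl⟩
    have h1 := h y hy
    calc g * y * g⁻¹ * x = g * (y * (g⁻¹ * x * g)) * g⁻¹ := by group
      _ = g * (g⁻¹ * x * g * y) * g⁻¹ := by rw [h1]
      _ = x * (g * y * g⁻¹) := by group

theorem cj_coe (g : G) (A : Subgroup G) :
    ((MulAut.conj g • A : Subgroup G) : Set G) = (fun x => g * x * g⁻¹) '' (A : Set G) := by
  ext x
  constructor
  · intro h
    exact ⟨g⁻¹ * x * g, mem_cj.1 h, by group⟩
  · rintro ⟨y, hy, rfl⟩
    exact cj_mem hy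

theorem cj_centralizer' (g : G) (A : Subgroup G) :
    centralizer ((MulAut.conj g • A : Subgroup G) : Set G) = MulAut.conj g • centralizer (A : Set G) := by
  rw [cj_coe, cj_centralizer]

theorem cj_closure (g : G) (s : Set G) :
    MulAut.conj g • closure s = closure ((fun x => g * x * g⁻¹) '' s) := by
  apply le_antisymm
  · intro x hx
    rw [mem_cj] at hx
    have h1 : closure s ≤ MulAut.conj g⁻¹ • closure ((fun x => g * x * g⁻¹) '' s) := by
      rw [closure_le]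
      intro y hy
      rw [SetLike.mem_coe, mem_cj, inv_inv]
      exact subset_closure ⟨y, hy, rfl⟩
    have h2 := h1 hx
    rw [mem_cj, inv_inv] at h2
    have h3 : g * (g⁻¹ * x * g) * g⁻¹ = x := by group
    rwa [h3] at h2
  · rw [closure_le]
    rintro _ ⟨y, hy, rfl⟩
    exact cj_mem (subset_closure hy)

theorem cj_Cl (g : G) (V R : Subgroup G) : Cl (MulAut.conj g • V) (MulAut.conj g • R) = MulAut.conj g • Cl V R := by
  rw [Cl, Cl, cj_closure]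
  congr 1
  ext x
  constructor
  · rintro ⟨r, hr, w, hw, rfl⟩
    rw [mem_cj] at hr hw
    refine ⟨_, ⟨_, hr, _, hw, rfl⟩, ?_⟩
    change g * (g⁻¹ * r * g * (g⁻¹ * w * g) * (g⁻¹ * r * g)⁻¹) * g⁻¹ = r * w * r⁻¹
    group
  · rintro ⟨_, ⟨r, hr, w, hw, rfl⟩, rfl⟩
    refine ⟨g * r * g⁻¹, cj_mem hr, g * w * g⁻¹, cj_mem hw, ?_⟩
    change g * (r * w * r⁻¹) * g⁻¹ = _
    group

theorem cj_VG (g : G) (ε : (Fin n → ZMod 2) → G) (Γ : Finset (Fin n)) :
    VG (cε g ε) Γ = MulAut.conj g • VG ε Γ := by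
  rw [VG, VG, cj_closure]
  congr 1
  ext x
  constructor
  · rintro ⟨v, hv, rfl⟩
    exact ⟨_, ⟨v, hv, rfl⟩, rfl⟩
  · rintro ⟨_, ⟨v, hv, rfl⟩, rfl⟩
    exact ⟨v, hv, rfl⟩

theorem cj_YG (g : G) (ε : (Fin n → ZMod 2) → G) (Γ : Finset (Fin n)) :
    YG (cε g ε) Γ = MulAut.conj g • YG ε Γ := by
  rw [YG, YG, cj_VG, cj_centralizer']

theorem cj_zz (g : G) (ε : (Fin n → ZMod 2) → G) (k : Fin n) : zz (cε g ε) k = g * zz ε k * g⁻¹ := rfl

theorem cj_PM (g : G) (V : Subgroup G) (ε : (Fin n → ZMod 2) → G) (k : Fin n) :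
    PM (MulAut.conj g • V) (cε g ε) k = MulAut.conj g • PM V ε k := by
  rw [PM, PM, cj_closure]
  congr 1
  ext x
  constructor
  · rintro (⟨h1, h2⟩ | ⟨i, j, hi, hj, hij, h⟩)
    · refine ⟨g⁻¹ * x * g, Or.inl ⟨?_, ?_⟩, by change g * (g⁻¹ * x * g) * g⁻¹ = x; group⟩
      · rwa [cj_normalizer, mem_cj] at h1
      · rw [cj_zz] at h2
        calc g⁻¹ * x * g * zz ε k * (g⁻¹ * x * g)⁻¹ = g⁻¹ * (x * (g * zz ε k * g⁻¹) * x⁻¹) * g := by group
          _ = g⁻¹ * (g * zz ε k * g⁻¹) * g := by rw [h2]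
          _ = zz ε k := by group
    · rw [cj_YG, mem_cj] at h
      exact ⟨g⁻¹ * x * g, Or.inr ⟨i, j, hi, hj, hij, h⟩, by change g * (g⁻¹ * x * g) * g⁻¹ = x; group⟩
  · rintro ⟨y, (⟨h1, h2⟩ | ⟨i, j, hi, hj, hij, h⟩), rfl⟩
    · left
      refine ⟨?_, ?_⟩
      · rw [cj_normalizer]
        exact cj_mem h1
      · rw [cj_zz]
        change g * y * g⁻¹ * (g * zz ε k * g⁻¹) * (g * y * g⁻¹)⁻¹ = _
        calc g * y * g⁻¹ * (g * zz ε k * g⁻¹) * (g * y * g⁻¹)⁻¹ = g * (y * zz ε k * y⁻¹) * g⁻¹ := by group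
          _ = _ := by rw [h2]
    · right
      refine ⟨i, j, hi, hj, hij, ?_⟩
      rw [cj_YG]
      exact cj_mem h

theorem cj_PY (g : G) (V : Subgroup G) (ε : (Fin n → ZMod 2) → G) (Γ : Finset (Fin n)) :
    PY (MulAut.conj g • V) (cε g ε) Γ = MulAut.conj g • PY V ε Γ := by
  rw [PY, PY, cj_closure]
  congr 1
  ext x
  constructor
  · rintro (⟨h1, h2⟩ | ⟨i, hi, j, hj, hij, h⟩)
    · rw [cj_normalizer, mem_cj] at h1
      rw [cj_YG, mem_cj] at h2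
      exact ⟨g⁻¹ * x * g, Or.inl ⟨h1, h2⟩, by change g * (g⁻¹ * x * g) * g⁻¹ = x; group⟩
    · rw [cj_YG, mem_cj] at h
      exact ⟨g⁻¹ * x * g, Or.inr ⟨i, hi, j, hj, hij, h⟩, by change g * (g⁻¹ * x * g) * g⁻¹ = x; group⟩
  · rintro ⟨y, (⟨h1, h2⟩ | ⟨i, hi, j, hj, hij, h⟩), rfl⟩
    · left
      refine ⟨?_, ?_⟩
      · rw [cj_normalizer]
        exact cj_mem h1
      · rw [cj_YG]
        exact cj_mem h2
    · right
      refine ⟨i, hi, j, hj, hij, ?_⟩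
      rw [cj_YG]
      exact cj_mem h

theorem cj_PU (g : G) (V : Subgroup G) (ε : (Fin n → ZMod 2) → G) (Γ : Finset (Fin n)) :
    PU (MulAut.conj g • V) (cε g ε) Γ = MulAut.conj g • PU V ε Γ := by
  rw [PU, PU, cj_PY, cj_Cl]

theorem cj_WI (g : G) (V : Subgroup G) (ε : (Fin n → ZMod 2) → G) (i j : Fin n) :
    WI (MulAut.conj g • V) (cε g ε) i j = MulAut.conj g • WI V ε i j := by
  rw [WI, WI, cj_YG, cj_Cl]

/-! ### Relabelling -/

/-- `V_Γ` after a relabelling by `σ` -/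
theorem VG_rel (ε : (Fin n → ZMod 2) → G) (σ : Equiv.Perm (Fin n)) (Γ : Finset (Fin n)) :
    VG (fun x => ε (x ∘ σ.symm)) Γ = VG ε (Γ.map σ.toEmbedding) := by
  rw [VG, VG]
  congr 1
  ext v
  constructor
  · rintro ⟨x, hx, rfl⟩
    refine ⟨x ∘ σ.symm, ?_, rfl⟩
    intro i hi j hj
    rw [Finset.mem_map] at hi hj
    obtain ⟨i, hi, rfl⟩ := hi
    obtain ⟨j, hj, rfl⟩ := hj
    simpa using hx i hi j hj
  · rintro ⟨x, hx, rfl⟩
    refine ⟨x ∘ σ, ?_, ?_⟩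
    · intro i hi j hj
      exact hx _ (Finset.mem_map_of_mem _ hi) _ (Finset.mem_map_of_mem _ hj)
    · change ε ((x ∘ σ) ∘ σ.symm) = ε x
      congr 1
      funext i
      simp

theorem YG_rel (ε : (Fin n → ZMod 2) → G) (σ : Equiv.Perm (Fin n)) (Γ : Finset (Fin n)) :
    YG (fun x => ε (x ∘ σ.symm)) Γ = YG ε (Γ.map σ.toEmbedding) := by
  rw [YG, YG, VG_rel]

theorem YG_rel_pair (ε : (Fin n → ZMod 2) → G) (σ : Equiv.Perm (Fin n)) (i j : Fin n) :
    YG (fun x => ε (x ∘ σ.symm)) {i, j} = YG ε {σ i, σ j} := by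
  rw [YG_rel]
  congr 1
  ext k
  simp [eq_comm]

theorem zz_rel (ε : (Fin n → ZMod 2) → G) (σ : Equiv.Perm (Fin n)) (k : Fin n) :
    zz (fun x => ε (x ∘ σ.symm)) k = zz ε (σ k) := by
  rw [zz, zz]
  congr 1
  funext j
  by_cases hj : j = σ k
  · subst hj
    simp
  · have h1 : σ.symm j ≠ k := fun h0 => hj (by rw [← h0, Equiv.apply_symm_apply])
    simp [Function.comp, hj, h1]

theorem PM_rel (V : Subgroup G) (ε : (Fin n → ZMod 2) → G) (σ : Equiv.Perm (Fin n)) (k : Fin n) :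
    PM V (fun x => ε (x ∘ σ.symm)) k = PM V ε (σ k) := by
  rw [PM, PM, zz_rel]
  congr 2
  ext g
  constructor
  · rintro ⟨i, j, hi, hj, hij, h⟩
    rw [YG_rel_pair] at h
    exact ⟨σ i, σ j, fun h0 => hi (σ.injective h0), fun h0 => hj (σ.injective h0),
      fun h0 => hij (σ.injective h0), h⟩
  · rintro ⟨i, j, hi, hj, hij, h⟩
    refine ⟨σ.symm i, σ.symm j, fun h0 => hi ?_, fun h0 => hj ?_, fun h0 => hij (σ.symm.injective h0), ?_⟩
    · rw [← h0, Equiv.apply_symm_apply]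
    · rw [← h0, Equiv.apply_symm_apply]
    · rw [YG_rel_pair, Equiv.apply_symm_apply, Equiv.apply_symm_apply]
      exact h

theorem PY_rel (V : Subgroup G) (ε : (Fin n → ZMod 2) → G) (σ : Equiv.Perm (Fin n)) (Γ : Finset (Fin n)) :
    PY V (fun x => ε (x ∘ σ.symm)) Γ = PY V ε (Γ.map σ.toEmbedding) := by
  rw [PY, PY, YG_rel]
  congr 2
  ext g
  constructor
  · rintro ⟨i, hi, j, hj, hij, h⟩
    rw [YG_rel_pair] at h
    exact ⟨σ i, Finset.mem_map_of_mem _ hi, σ j, Finset.mem_map_of_mem _ hj, fun h0 => hij (σ.injective h0), h⟩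
  · rintro ⟨i, hi, j, hj, hij, h⟩
    rw [Finset.mem_map] at hi hj
    obtain ⟨i, hi, rfl⟩ := hi
    obtain ⟨j, hj, rfl⟩ := hj
    refine ⟨i, hi, j, hj, fun h0 => hij (by rw [h0]), ?_⟩
    rw [YG_rel_pair]
    exact h

theorem PU_rel (V : Subgroup G) (ε : (Fin n → ZMod 2) → G) (σ : Equiv.Perm (Fin n)) (Γ : Finset (Fin n)) :
    PU V (fun x => ε (x ∘ σ.symm)) Γ = PU V ε (Γ.map σ.toEmbedding) := by
  rw [PU, PU, PY_rel]

theorem WI_rel (V : Subgroup G) (ε : (Fin n → ZMod 2) → G) (σ : Equiv.Perm (Fin n)) (i j : Fin n) :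
    WI V (fun x => ε (x ∘ σ.symm)) i j = WI V ε (σ i) (σ j) := by
  rw [WI, WI, YG_rel_pair]

theorem cε_acts {ε : (Fin n → ZMod 2) → G} {g : G} {σ : Equiv.Perm (Fin n)} (h : Acts ε g σ) :
    cε g ε = fun x => ε (x ∘ σ.symm) := funext h

/-- `M^(k)^g = M^(σ k)` for `g ∈ N(V)` acting as `σ` -/
theorem cj_PM_acts {V : Subgroup G} {ε : (Fin n → ZMod 2) → G} {g : G} {σ : Equiv.Perm (Fin n)}
    (hg : g ∈ normalizer (V : Set G)) (h : Acts ε g σ) (k : Fin n) :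
    MulAut.conj g • PM V ε k = PM V ε (σ k) := by
  rw [← cj_PM, cj_eq_of_mem hg, cε_acts h, PM_rel]

theorem cj_PU_acts {V : Subgroup G} {ε : (Fin n → ZMod 2) → G} {g : G} {σ : Equiv.Perm (Fin n)}
    (hg : g ∈ normalizer (V : Set G)) (h : Acts ε g σ) (Γ : Finset (Fin n)) :
    MulAut.conj g • PU V ε Γ = PU V ε (Γ.map σ.toEmbedding) := by
  rw [← cj_PU, cj_eq_of_mem hg, cε_acts h, PU_rel]

theorem cj_WI_acts {V : Subgroup G} {ε : (Fin n → ZMod 2) → G} {g : G} {σ : Equiv.Perm (Fin n)}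
    (hg : g ∈ normalizer (V : Set G)) (h : Acts ε g σ) (i j : Fin n) :
    MulAut.conj g • WI V ε i j = WI V ε (σ i) (σ j) := by
  rw [← cj_WI, cj_eq_of_mem hg, cε_acts h, WI_rel]

/-! ### The frame -/

/-- The frame. -/
structure Fr [NeZero n] (V W : Subgroup G) (ε : (Fin n → ZMod 2) → G) : Prop where
  n5 : 5 ≤ n
  nodd : Odd n
  ev : EvenSet n V (normalizer (V : Set G)) ε
  Weq : W = Cl V (PM V ε 0)
  Wc : ∀ a ∈ W, ∀ b ∈ W, a * b = b * a
  Ws : ∀ a ∈ W, a * a = 1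
  /-- `V ≤ Z(O₂(M))` -/
  Qc : o2 (PM V ε 0) ≤ centralizer (V : Set G)
  /-- `O₂(M / C(W)) = 1` -/
  o2M : ∀ A : Subgroup G, A ≤ PM V ε 0 → PM V ε 0 ≤ normalizer (A : Set G) →
    (∀ a ∈ A, ∃ k : ℕ, a ^ 2 ^ k ∈ centralizer (W : Set G)) → A ≤ centralizer (W : Set G)
  /-- fusion of the heavy vectors in `V` -/
  fus : ∀ (i : Fin n) (g : G), g * zz ε i * g⁻¹ ∈ V → ∃ j, g * zz ε i * g⁻¹ = zz ε j
  /-- (B2) -/
  syl : ∀ Γ : Finset (Fin n), 0 ∉ Γ → ∃ T : Subgroup G, T ≤ YG ε Γ ∧ T ≤ normalizer (V : Set G) ∧ IsPGroup 2 T ∧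
    ¬ 2 ∣ T.relIndex (YG ε Γ)
  /-- (CV) -/
  cv : ∀ T : Subgroup G, T ≤ centralizer (V : Set G) → IsPGroup 2 T → ¬ 2 ∣ T.relIndex (centralizer (V : Set G)) →
    W ⊓ centralizer (T : Set G) ≤ V
  kg : IsKGroup (centralizer ({zz ε 0} : Set G))

/-- `|A| |C_W(A)|` -/
noncomputable def fW (W A : Subgroup G) : ℕ := Nat.card A * Nat.card ↥(W ⊓ centralizer (A : Set G))

/-- `A ≥ C_G(W)` acts on `W` as an atom (minimal exact elementary abelian group) -/
structure At (W A : Subgroup G) : Prop where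
  le : centralizer (W : Set G) ≤ A
  ne : ¬ A ≤ centralizer (W : Set G)
  el : ElemM W A
  tight : fW W A = Nat.card ↥(centralizer (W : Set G)) * Nat.card W
  min : ∀ B : Subgroup G, centralizer (W : Set G) < B → B < A →
    fW W B < Nat.card ↥(centralizer (W : Set G)) * Nat.card W

/-- `(NO)` for the elementary abelian groups between `C_G(W)` and `P` -/
def NOv (W P : Subgroup G) : Prop :=
  ∀ B : Subgroup G, centralizer (W : Set G) ≤ B → B ≤ P → ElemM W B →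
    fW W B ≤ Nat.card ↥(centralizer (W : Set G)) * Nat.card W

/-- `QQ_k(V)`: the full preimage of the image of `O₂(M^(k))` -/
def QQ (V W : Subgroup G) (ε : (Fin n → ZMod 2) → G) (k : Fin n) : Subgroup G :=
  o2 (PM V ε k) ⊔ centralizer (W : Set G)

/-- `P_ij(V)`: the full preimage of the image of `O₂(C(W_ij))` -/
def PP (V W : Subgroup G) (ε : (Fin n → ZMod 2) → G) (i j : Fin n) : Subgroup G :=
  o2 (centralizer (WI V ε i j : Set G)) ⊔ centralizer (W : Set G)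

/-- `E_1 ≤ O₂(C(V))` modulo `C(W)` -/
def OV (V W : Subgroup G) : Subgroup G := o2 (centralizer (V : Set G)) ⊔ centralizer (W : Set G)

end Cfsg.Agent.Omega.NO3S.SN.RTwo
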