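import Cfsg.Agent.Omega.NO3S.SN.R1.Two

/-!
# THEOREM R2 (helper695 #24008): (ML) on `W_ij / V_ij`

`U = W_ij = ⟨V^{X_ij}⟩`, `X_ij = C_G(V_ij)`, `A ≤ O₂(C_G(V))` with `A² ≤ C(U)`.  If an element of `A` which centralises
`U / V_ij` centralises `U`, then `|A : C_A(U)| ≤ |U : C_U(A)|` (`pair_ml`).
-/

set_option autoImplicit false
set_option linter.unusedSectionVars false

namespace Cfsg.Agent.Omega.NO3S.SN.RTwo

open Subgroup Cfsg Cfsg.Agent.ZN Cfsg.Agent.Omega.S5.Def
open Cfsg.Agent.Omega.NO3S.SN.R1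
open Cfsg.Agent.MinSimple.VModule

universe u

variable {G : Type u} [Group G]

section labels

variable {n : ℕ} {V : Subgroup G} {L : Subgroup G} {ε : (Fin n → ZMod 2) → G}

/-- `z_i z_j ∈ V_ij` -/
theorem zz_mul_zz_mem (ev : EvenSet n V L ε) {i j : Fin n} (hij : i ≠ j) : zz ε j * (zz ε i)⁻¹ ∈ VG ε {i, j} := by
  have h1 : (zz ε i)⁻¹ = zz ε i := ev.inv _
  have h2 : zz ε j * zz ε i = ε (Pi.single j 1 + Pi.single i 1) := (ev.add _ _).symm
  rw [h1, h2, mem_VG_iff ev]
  have hv : ∀ c, (c = i ∨ c = j) → (Pi.single j 1 + Pi.single i 1 : Fin n → ZMod 2) c = 1 := by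
    rintro c (rfl | rfl)
    · rw [Pi.add_apply, Pi.single_eq_same, Pi.single_eq_of_ne hij, zero_add]
    · rw [Pi.add_apply, Pi.single_eq_same, Pi.single_eq_of_ne hij.symm, add_zero]
  intro a ha b hb
  simp only [Finset.mem_insert, Finset.mem_singleton] at ha hb
  rw [hv a ha, hv b hb]

/-- `V = V_ij ⟨z_i⟩` -/
theorem mem_VG_or (ev : EvenSet n V L ε) {i j : Fin n} (hij : i ≠ j) {v : G} (hv : v ∈ V) :
    v ∈ VG ε {i, j} ∨ v * zz ε i ∈ VG ε {i, j} := by
  obtain ⟨x, rfl⟩ := ev.surj v hv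
  rcases eq_or_ne (x i) (x j) with h1 | h1
  · left
    rw [mem_VG_iff ev]
    intro a ha b hb
    simp only [Finset.mem_insert, Finset.mem_singleton] at ha hb
    rcases ha with rfl | rfl <;> rcases hb with rfl | rfl
    · rfl
    · exact h1
    · exact h1.symm
    · rfl
  · right
    have h2 : ε x * zz ε i = ε (x + Pi.single i 1) := (ev.add _ _).symm
    rw [h2, mem_VG_iff ev]
    have h3 : (x + Pi.single i 1 : Fin n → ZMod 2) i = x j := by
      rw [Pi.add_apply, Pi.single_eq_same]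
      rcases zmod2 (x i) with h4 | h4 <;> rcases zmod2 (x j) with h5 | h5
      · exact absurd (h4.trans h5.symm) h1
      · rw [h4, h5]; rfl
      · rw [h4, h5]; rfl
      · exact absurd (h4.trans h5.symm) h1
    have h4 : (x + Pi.single i 1 : Fin n → ZMod 2) j = x j := by
      rw [Pi.add_apply, Pi.single_eq_of_ne hij.symm, add_zero]
    intro a ha b hb
    simp only [Finset.mem_insert, Finset.mem_singleton] at ha hb
    rcases ha with rfl | rfl <;> rcases hb with rfl | rfl
    · rfl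
    · rw [h3, h4]
    · rw [h3, h4]
    · rfl

theorem V_le_pair (ev : EvenSet n V L ε) {i j : Fin n} (hij : i ≠ j) {S : Subgroup G} (hz : zz ε i ∈ S)
    (hS : VG ε {i, j} ≤ S) : V ≤ S := by
  intro v hv
  rcases mem_VG_or ev hij hv with h1 | h1
  · exact hS h1
  · exact (mul_mem_cancel_right hz).1 (hS h1)

/-- an element of `N(V) ∩ X_ij` fixes `z_i V_ij` -/
theorem fix_pair (ev : EvenSet n V (normalizer (V : Set G)) ε) (hn : 3 ≤ n) {i j : Fin n} (hij : i ≠ j) {t : G}
    (ht : t ∈ YG ε {i, j}) (htV : t ∈ normalizer (V : Set G)) : t * zz ε i * t⁻¹ * (zz ε i)⁻¹ ∈ VG ε {i, j} := by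
  obtain ⟨σ, hσ⟩ := ev.perm t htV
  have h1 : t * zz ε i * t⁻¹ = zz ε (σ i) := hσ.single i
  rw [h1]
  have h2 : σ i = i ∨ σ i = j := by
    by_contra hcon
    push Not at hcon
    have h3 : σ i ∉ ({i, j} : Finset (Fin n)) := by
      simp only [Finset.mem_insert, Finset.mem_singleton, not_or]
      exact hcon
    have h4 := acts_fix ev hn hσ ht h3
    exact hcon.1 (σ.injective h4)
  rcases h2 with h2 | h2
  · rw [h2, mul_inv_cancel]
    exact one_mem _
  · rw [h2]
    exact zz_mul_zz_mem ev hij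

/-- an element of `X_ij` which fixes `z_i V_ij` normalises `V` -/
theorem mem_normalizer_pair (ev : EvenSet n V L ε) {i j : Fin n} (hij : i ≠ j) {g : G} (hg : g ∈ YG ε {i, j})
    (hz : g * zz ε i * g⁻¹ * (zz ε i)⁻¹ ∈ VG ε {i, j}) [Finite G] : g ∈ normalizer (V : Set G) := by
  refine mem_normalizer_of_map_le ?_
  have h0 : ∀ v ∈ VG ε {i, j}, g * v * g⁻¹ = v := by
    intro v hv
    have h1 := mem_centralizer_iff.1 hg v hv
    rw [← h1, mul_inv_cancel_right]
  have h1 : g * zz ε i * g⁻¹ ∈ V := by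
    have h2 := mul_mem (VG_le ev _ hz) (ev.mem (Pi.single i 1))
    change g * zz ε i * g⁻¹ * (zz ε i)⁻¹ * zz ε i ∈ V at h2
    rwa [inv_mul_cancel_right] at h2
  rintro _ ⟨v, hv, rfl⟩
  change g * v * g⁻¹ ∈ V
  rcases mem_VG_or ev hij hv with h2 | h2
  · rw [h0 v h2]; exact hv
  · have h3 := h0 _ h2
    have h4 : g * (v * zz ε i) * g⁻¹ = g * v * g⁻¹ * (g * zz ε i * g⁻¹) := by group
    rw [h4] at h3
    exact (mul_mem_cancel_right h1).1 (h3 ▸ VG_le ev _ h2)

end labels

section ml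

variable [Finite G] {n : ℕ} {V A : Subgroup G} {ε : (Fin n → ZMod 2) → G}

/-- **(ML) on `W_ij / V_ij`** -/
theorem pair_ml (hML : ML.Final.MLK.{u, u}) (ev : EvenSet n V (normalizer (V : Set G)) ε) (hn : 3 ≤ n) {i j : Fin n}
    (hij : i ≠ j) (hK : IsKGroup (YG ε {i, j})) (hc : ∀ a ∈ UG V ε {i, j}, ∀ b ∈ UG V ε {i, j}, a * b = b * a)
    (hs : ∀ a ∈ UG V ε {i, j}, a * a = 1)
    (hsyl : ∃ T : Subgroup G, T ≤ YG ε {i, j} ∧ T ≤ normalizer (V : Set G) ∧ IsPGroup 2 T ∧
      ¬ 2 ∣ T.relIndex (YG ε {i, j}))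
    (hA : A ≤ o2 (centralizer (V : Set G))) (hsq : ∀ a ∈ A, a ^ 2 ∈ centralizer (UG V ε {i, j} : Set G))
    (hfix : ∀ a ∈ A, (∀ x ∈ UG V ε {i, j}, a * x * a⁻¹ * x⁻¹ ∈ VG ε {i, j}) →
      a ∈ centralizer (UG V ε {i, j} : Set G)) :
    (centralizer (UG V ε {i, j} : Set G)).relIndex A ≤ (centralizer (A : Set G)).relIndex (UG V ε {i, j}) := by
  set Γ : Finset (Fin n) := {i, j} with hΓ
  have hVU : V ≤ UG V ε Γ := le_Cl _ _
  have hYU : YG ε Γ ≤ normalizer (UG V ε Γ : Set G) := le_normalizer_Cl _ _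
  have hGV : VG ε Γ ≤ V := VG_le ev Γ
  have hAV : A ≤ centralizer (V : Set G) := hA.trans (o2_le _)
  have hAY : A ≤ YG ε Γ := hAV.trans (centralizer_le_YG ev Γ)
  obtain ⟨T, hT1, hT2, hT3, hT4⟩ := hsyl
  have D : ML.Final.GDat (YG ε Γ) (UG V ε Γ) (VG ε Γ) T (o2 (centralizer (V : Set G))) A (zz ε i) := by
    refine
      { nW := hYU
        nY := centralizer_le_normalizer _
        YW := hGV.trans hVU
        WY := ?_
        sq := ?_
        mem := hVU (ev.mem _)
        gen := ?_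
        TC := hT1
        two := hT3
        odd := hT4
        fixT := fun t ht => fix_pair ev hn hij (hT1 ht) (hT2 ht)
        QC := (o2_le _).trans (centralizer_le_YG ev Γ)
        Q2 := o2_isPGroup _
        fixQ := ?_
        nrmQ := ?_
        AQ := hA
        Asq := ?_ }
    · intro u hu
      refine centralizer_le_normalizer _ (mem_centralizer_iff.2 fun v hv => ?_)
      exact hc v (hVU (hGV hv)) u hu
    · intro x hx
      rw [hs x hx]
      exact one_mem _
    · intro S hS1 hS2 hS3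
      exact Cl_le (V_le_pair ev hij hS1 hS2) hS3
    · intro q hq
      have h1 := mem_centralizer_iff.1 (o2_le _ hq) _ (ev.mem (Pi.single i 1))
      change q * ε (Pi.single i 1) * q⁻¹ * (ε (Pi.single i 1))⁻¹ ∈ _
      rw [← h1, mul_inv_cancel_right, mul_inv_cancel]
      exact one_mem _
    · intro g hg hgz q hq
      have h1 := mem_normalizer_pair ev hij hg hgz
      exact (mem_normalizer_iff.1 (norm_o2 (norm_cent h1)) q).1 hq
    · intro a ha x hx
      have h1 := mem_centralizer_iff.1 (hsq a ha) x hx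
      have h2 : a * (a * x * a⁻¹) * a⁻¹ * x⁻¹ = a ^ 2 * x * (a ^ 2)⁻¹ * x⁻¹ := by
        rw [pow_two]
        group
      rw [h2, ← h1, mul_inv_cancel_right, mul_inv_cancel]
      exact one_mem _
  obtain ⟨CW, hCW⟩ := exists_cm hc (hGV.trans hVU) A
  have h1 : (A ⊓ centralizer (UG V ε Γ : Set G)).relIndex A ≤ CW.relIndex (UG V ε Γ) := by
    refine hML.grp hK D ?_ hCW
    intro a
    constructor
    · rintro ⟨ha, ha2⟩
      refine ⟨ha, fun x hx => ?_⟩
      rw [← mem_centralizer_iff.1 ha2 x hx, mul_inv_cancel_right, mul_inv_cancel]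
      exact one_mem _
    · rintro ⟨ha, ha2⟩
      exact ⟨ha, hfix a ha ha2⟩
  have e0 : (A ⊓ centralizer (UG V ε Γ : Set G)).relIndex A = (centralizer (UG V ε Γ : Set G)).relIndex A := by
    rw [inf_comm, inf_relIndex_right]
  rw [e0] at h1
  refine h1.trans ?_
  rw [← inf_relIndex_right (centralizer (A : Set G))]
  refine relIndex_le_of_le_left ?_ index_ne_zero_of_finite
  rintro x ⟨hx1, hx2⟩
  refine (hCW x).2 ⟨hx2, fun a ha => ?_⟩
  rw [mem_centralizer_iff.1 hx1 a ha, mul_inv_cancel_right, mul_inv_cancel]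
  exact one_mem _

end ml

section count

variable [Finite G] {K W U A : Subgroup G}

theorem card_mul_rel {B A : Subgroup G} (h : B ≤ A) : Nat.card B * B.relIndex A = Nat.card A := by
  rw [← relIndex_bot_left (H := B), ← relIndex_bot_left (H := A)]
  exact relIndex_mul_relIndex _ _ _ bot_le h

/-- `f(B) = |B| |C_W(B)|`; `A` minimal with `f(A) = f(K)`, `K ≤ C(W)`, exact on `U`, moves `U`: then `C_A(U) = K` and
`W = U C_W(A)`. -/
theorem exact_of (hUW : U ≤ W) (hKA : K ≤ A) (hKW : K ≤ centralizer (W : Set G))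
    (hmin : ∀ B : Subgroup G, K < B → B < A → Nat.card B * Nat.card ↥(W ⊓ centralizer (B : Set G)) <
      Nat.card A * Nat.card ↥(W ⊓ centralizer (A : Set G)))
    (hf : Nat.card A * Nat.card ↥(W ⊓ centralizer (A : Set G)) = Nat.card K * Nat.card W)
    (hne : ¬ A ≤ centralizer (U : Set G))
    (hind : (centralizer (U : Set G)).relIndex A ≤ (centralizer (A : Set G)).relIndex U) :
    A ⊓ centralizer (U : Set G) = K ∧ W ≤ U ⊔ (W ⊓ centralizer (A : Set G)) := by
  set B : Subgroup G := A ⊓ centralizer (U : Set G) with hB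
  set S : Subgroup G := W ⊓ centralizer (A : Set G) with hS
  have hBA : B ≤ A := inf_le_left
  have hlt : B < A := lt_of_le_of_ne hBA fun he => hne (by rw [← he]; exact inf_le_right)
  have hKB : K ≤ B := le_inf hKA (hKW.trans (centralizer_le hUW))
  have e1 : B.relIndex A = (centralizer (U : Set G)).relIndex A := by rw [hB, inf_comm, inf_relIndex_right]
  have e2 : S.relIndex U = (centralizer (A : Set G)).relIndex U := by
    rw [← inf_relIndex_right S, ← inf_relIndex_right (centralizer (A : Set G)), hS]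
    congr 1
    rw [inf_assoc, inf_comm, inf_assoc, inf_eq_left.2 hUW]
  rw [← e1, ← e2] at hind
  have e3 : S.relIndex U ≤ S.relIndex (U ⊔ S) := relIndex_le_of_le_right le_sup_left index_ne_zero_of_finite
  have e4 : Nat.card S * S.relIndex (U ⊔ S) = Nat.card ↥(U ⊔ S) := card_mul_rel le_sup_right
  have e5 : Nat.card B * B.relIndex A = Nat.card A := card_mul_rel hBA
  have hSB : U ⊔ S ≤ W ⊓ centralizer (B : Set G) := by
    refine sup_le (le_inf hUW fun u hu => mem_centralizer_iff.2 fun b hb => ?_)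
      (inf_le_inf_left _ (centralizer_le hBA))
    exact (mem_centralizer_iff.1 hb.2 u hu).symm
  have e6 : Nat.card ↥(U ⊔ S) ≤ Nat.card ↥(W ⊓ centralizer (B : Set G)) := card_le_of_le hSB
  have e7 : Nat.card S * B.relIndex A ≤ Nat.card ↥(U ⊔ S) := by
    rw [← e4]
    exact Nat.mul_le_mul_left _ (hind.trans e3)
  have hBK : B = K := by
    by_contra hcon
    have h1 := hmin B (lt_of_le_of_ne hKB (Ne.symm hcon)) hlt
    have h2 : Nat.card A * Nat.card S ≤ Nat.card B * Nat.card ↥(W ⊓ centralizer (B : Set G)) := by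
      rw [← e5, mul_assoc]
      refine Nat.mul_le_mul_left _ ?_
      rw [mul_comm]
      exact e7.trans e6
    omega
  refine ⟨hBK, ?_⟩
  rw [hBK] at e5 e7
  have h3 : Nat.card K * (Nat.card S * K.relIndex A) = Nat.card K * Nat.card W := by
    rw [← hf, ← e5]
    ring
  have h4 : Nat.card S * K.relIndex A = Nat.card W := Nat.eq_of_mul_eq_mul_left Nat.card_pos h3
  have h5 : U ⊔ S ≤ W := sup_le hUW inf_le_left
  have h6 : U ⊔ S = W := eq_of_le_of_card_ge h5 (by rw [← h4]; exact e7)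
  exact h6.ge

end count

end Cfsg.Agent.Omega.NO3S.SN.RTwo
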