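import Cfsg.Agent.Omega.NO3S.SN.RTwo.Def
import Cfsg.Agent.Omega.NO3S.SN.RTwo.PairML

/-!
# THEOREM R2 (helper695 #24008), (4) and (5)

`V` is the line `l` of the text, `E ≤ O₂(C(V))` an atom which moves `W_ij(V)`.

* `AA V W ε k` : the join of the atoms in `QQ_k(V)`;
* `NrmS W` : (1), the normaliser trick; `EndS V W ε` : (3), the end (hypotheses here);
* `Fr.end_of` : `[W, E]` is centralised by all atoms of `QQ_k(s)`, `s ∈ V^{X_ij}`, (H0) at the pair `ij`: contradiction;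
* `Fr.four` : (4) CASE 2; `Fr.five` : (5) CASE 1a.
-/

set_option autoImplicit false
set_option linter.unusedSectionVars false

namespace Cfsg.Agent.Omega.NO3S.SN.RTwo

open Subgroup Cfsg Cfsg.Agent.ZN Cfsg.Agent.Omega.S5.Def
open Cfsg.Agent.Omega.NO3S.SN.R1
open Cfsg.Agent.Omega.FFThm (ElemM)
open Cfsg.Agent.MinSimple.VModule
open scoped Pointwise

universe u

variable {G : Type u} [Group G] {n : ℕ}

/-- the join of the atoms in `QQ_k(V)` -/
def AA (V W : Subgroup G) (ε : (Fin n → ZMod 2) → G) (k : Fin n) : Subgroup G :=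
  sSup {A | At W A ∧ A ≤ QQ V W ε k}

/-- **(1)**, the normaliser trick -/
def NrmS (W : Subgroup G) : Prop :=
  ∀ (A P : Subgroup G) (e : G), At W A → NOv W P → A ≤ P → MulAut.conj e • A ≤ P → e ∈ normalizer (W : Set G) →
    (∀ w ∈ W, e * w * e⁻¹ * w⁻¹ ∈ centralizer (A : Set G)) → MulAut.conj e • A = A

/-- **(3)**, the end -/
def EndS [NeZero n] (V W : Subgroup G) (ε : (Fin n → ZMod 2) → G) : Prop :=
  ∀ (E : Subgroup G) (i j : Fin n), At W E → E ≤ OV V W → i ≠ 0 → j ≠ 0 → i ≠ j →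
    ¬ E ≤ centralizer (WI V ε i j : Set G) →
    (∀ x ∈ YG ε {i, j}, ∀ k : Fin n, k ≠ 0 → ∀ e ∈ E,
      e ∈ normalizer (AA (MulAut.conj x • V) W (cε x ε) k : Set G)) → False

/-! ### Tools -/

theorem exists_mul_sup {A B : Subgroup G} (hn : B ≤ normalizer (A : Set G)) {x : G} (hx : x ∈ A ⊔ B) :
    ∃ a ∈ A, ∃ b ∈ B, x = a * b := by
  rw [sup_eq_closure] at hx
  refine closure_induction (p := fun x _ => ∃ a ∈ A, ∃ b ∈ B, x = a * b) ?_ ?_ ?_ ?_ hx
  · rintro y (hy | hy)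
    · exact ⟨y, hy, 1, one_mem _, (mul_one y).symm⟩
    · exact ⟨1, one_mem _, y, hy, (one_mul y).symm⟩
  · exact ⟨1, one_mem _, 1, one_mem _, (one_mul 1).symm⟩
  · rintro _ _ _ _ ⟨a, ha, b, hb, rfl⟩ ⟨a', ha', b', hb', rfl⟩
    refine ⟨a * (b * a' * b⁻¹), mul_mem ha ((mem_normalizer_iff.1 (hn hb) a').1 ha'), b * b', mul_mem hb hb', ?_⟩
    group
  · rintro _ _ ⟨a, ha, b, hb, rfl⟩
    refine ⟨b⁻¹ * a⁻¹ * b⁻¹⁻¹, (mem_normalizer_iff.1 (hn (inv_mem hb)) a⁻¹).1 (inv_mem ha), b⁻¹, inv_mem hb, ?_⟩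
    group

theorem o2_cj_le (g : G) (L : Subgroup G) : MulAut.conj g • o2 L ≤ o2 (MulAut.conj g • L) := by
  refine le_o2 (cj_mono (o2_le L)) ((o2_isPGroup L).map _) ?_
  rw [cj_normalizer]
  exact cj_mono (le_normalizer_o2 L)

theorem o2_cj (g : G) (L : Subgroup G) : o2 (MulAut.conj g • L) = MulAut.conj g • o2 L := by
  refine le_antisymm ?_ (o2_cj_le g L)
  have h1 := cj_mono (g := g) (o2_cj_le g⁻¹ (MulAut.conj g • L))
  rwa [cj_cj_inv, cj_inv_cj] at h1

theorem cj_sup (g : G) (A B : Subgroup G) : MulAut.conj g • (A ⊔ B) = MulAut.conj g • A ⊔ MulAut.conj g • B := by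
  apply le_antisymm
  · have h1 : A ⊔ B ≤ MulAut.conj g⁻¹ • (MulAut.conj g • A ⊔ MulAut.conj g • B) := by
      refine sup_le ?_ ?_
      · have h2 := cj_mono (g := g⁻¹) (le_sup_left : MulAut.conj g • A ≤ MulAut.conj g • A ⊔ MulAut.conj g • B)
        rwa [cj_inv_cj] at h2
      · have h2 := cj_mono (g := g⁻¹) (le_sup_right : MulAut.conj g • B ≤ MulAut.conj g • A ⊔ MulAut.conj g • B)
        rwa [cj_inv_cj] at h2
    have h3 := cj_mono (g := g) h1
    rwa [cj_cj_inv] at h3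
  · exact sup_le (cj_mono le_sup_left) (cj_mono le_sup_right)

theorem cj_QQ (g : G) (V W : Subgroup G) (ε : (Fin n → ZMod 2) → G) (k : Fin n) :
    QQ (MulAut.conj g • V) (MulAut.conj g • W) (cε g ε) k = MulAut.conj g • QQ V W ε k := by
  rw [QQ, QQ, cj_PM, o2_cj, cj_centralizer', cj_sup]

theorem cj_PP (g : G) (V W : Subgroup G) (ε : (Fin n → ZMod 2) → G) (i j : Fin n) :
    PP (MulAut.conj g • V) (MulAut.conj g • W) (cε g ε) i j = MulAut.conj g • PP V W ε i j := by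
  rw [PP, PP, cj_WI, cj_centralizer', o2_cj, cj_centralizer', cj_sup]

theorem cj_OV (g : G) (V W : Subgroup G) :
    OV (MulAut.conj g • V) (MulAut.conj g • W) = MulAut.conj g • OV V W := by
  rw [OV, OV, cj_centralizer', o2_cj, cj_centralizer', cj_sup]

theorem relIndex_le_of_mul [Finite G] {H A B : Subgroup G} (hAB : A ≤ B) (h : ∀ b ∈ B, ∃ a ∈ A, ∃ c ∈ H, b = a * c) :
    H.relIndex B ≤ H.relIndex A := by
  refine Nat.card_le_card_of_surjective (quotientSubgroupOfEmbeddingOfLE H hAB) ?_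
  intro q
  obtain ⟨b, rfl⟩ := QuotientGroup.mk_surjective q
  obtain ⟨a, ha, c, hc, he⟩ := h b.1 b.2
  refine ⟨QuotientGroup.mk ⟨a, ha⟩, ?_⟩
  rw [quotientSubgroupOfEmbeddingOfLE_apply_mk, QuotientGroup.eq, mem_subgroupOf]
  change a⁻¹ * b.1 ∈ H
  rw [he, inv_mul_cancel_left]
  exact hc

/-- `W_ij(s) = W_ij(V)` for `s ∈ V^{X_ij}` -/
theorem WI_eq {V : Subgroup G} {ε : (Fin n → ZMod 2) → G} {i j : Fin n} {x : G} (hx : x ∈ YG ε {i, j}) :
    WI (MulAut.conj x • V) (cε x ε) i j = WI V ε i j := by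
  have h : x ∈ normalizer (WI V ε i j : Set G) := le_normalizer_Cl V _ hx
  rw [cj_WI, cj_eq_of_mem h]

/-- `U_Γ(s) = U_Γ(V)` for `s ∈ V^{X_ij}`, `i, j ∈ Γ` -/
theorem PU_eq {V : Subgroup G} {ε : (Fin n → ZMod 2) → G} {Γ : Finset (Fin n)} {i j : Fin n} (hi : i ∈ Γ)
    (hj : j ∈ Γ) (hij : i ≠ j) {x : G} (hx : x ∈ YG ε {i, j}) :
    PU (MulAut.conj x • V) (cε x ε) Γ = PU V ε Γ := by
  have h1 : x ∈ PY V ε Γ := subset_closure (Or.inr ⟨i, hi, j, hj, hij, hx⟩)
  have h2 : x ∈ normalizer (PU V ε Γ : Set G) := le_normalizer_Cl V _ h1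
  rw [cj_PU, cj_eq_of_mem h2]

variable [Finite G] [NeZero n] {V W E : Subgroup G} {ε : (Fin n → ZMod 2) → G}

namespace Fr

theorem n3 (h : Fr V W ε) : 3 ≤ n := by have := h.n5; omega

theorem CV_le_PM (h : Fr V W ε) (k : Fin n) : centralizer (V : Set G) ≤ PM V ε k := by
  intro g hg
  refine subset_closure (Or.inl ⟨centralizer_le_normalizer _ hg, ?_⟩)
  have h1 := mem_centralizer_iff.1 hg _ (h.ev.mem (Pi.single k 1))
  change g * ε (Pi.single k 1) * g⁻¹ = ε (Pi.single k 1)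
  rw [← h1, mul_inv_cancel_right]

theorem YG_le_PM (ε : (Fin n → ZMod 2) → G) (V : Subgroup G) {i j k : Fin n} (hi : i ≠ k) (hj : j ≠ k)
    (hij : i ≠ j) : YG ε {i, j} ≤ PM V ε k := fun _ hg => subset_closure (Or.inr ⟨i, j, hi, hj, hij, hg⟩)

theorem VW (h : Fr V W ε) : V ≤ W := by
  rw [h.Weq]
  exact le_Cl _ _

theorem PM_norm (h : Fr V W ε) : PM V ε 0 ≤ normalizer (W : Set G) := by
  rw [h.Weq]
  exact le_normalizer_Cl _ _

theorem WI_le (h : Fr V W ε) {i j : Fin n} (hi : i ≠ 0) (hj : j ≠ 0) (hij : i ≠ j) : WI V ε i j ≤ W :=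
  Cl_le h.VW ((YG_le_PM ε V hi hj hij).trans h.PM_norm)

theorem OV_le (h : Fr V W ε) : OV V W ≤ centralizer (V : Set G) :=
  sup_le (o2_le _) (centralizer_le h.VW)

theorem YG_norm (h : Fr V W ε) {i j : Fin n} (hi : i ≠ 0) (hj : j ≠ 0) (hij : i ≠ j) {x : G}
    (hx : x ∈ YG ε {i, j}) : x ∈ normalizer (W : Set G) := h.PM_norm (YG_le_PM ε V hi hj hij hx)

theorem kX (h : Fr V W ε) {i j : Fin n} (hi : i ≠ 0) (hj : j ≠ 0) : IsKGroup (YG ε {i, j}) := by
  have h1 : YG ε {i, j} ≤ centralizer ({zz ε 0} : Set G) := by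
    refine centralizer_le ?_
    rw [Set.singleton_subset_iff]
    refine (mem_VG_iff h.ev).2 (cst_single ?_)
    simp only [Finset.mem_insert, Finset.mem_singleton, not_or]
    exact ⟨hi.symm, hj.symm⟩
  exact ML.Final.kgroup_of_surj h.kg ((YG ε {i, j}).subgroupOf _) (subgroupOfEquivOfLe h1).toMonoidHom
    (subgroupOfEquivOfLe h1).surjective

/-- `QQ_k ∩ C(W_ij) ≤ P_ij` -/
theorem QQ_inf_le (h : Fr V W ε) {i j : Fin n} (k : Fin n) (hi : i ≠ 0) (hj : j ≠ 0) (hij : i ≠ j) :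
    QQ V W ε k ⊓ centralizer (WI V ε i j : Set G) ≤ PP V W ε i j := by
  have h0 : centralizer (W : Set G) ≤ centralizer (WI V ε i j : Set G) := centralizer_le (h.WI_le hi hj hij)
  have h1 : centralizer (WI V ε i j : Set G) ≤ centralizer (V : Set G) := centralizer_le (le_Cl _ _)
  have h2 : o2 (PM V ε k) ⊓ centralizer (WI V ε i j : Set G) ≤ o2 (centralizer (WI V ε i j : Set G)) := by
    refine le_o2 inf_le_right ((o2_isPGroup _).to_le inf_le_left) ?_
    intro g hg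
    have h3 : g ∈ normalizer (o2 (PM V ε k) : Set G) := le_normalizer_o2 _ (h.CV_le_PM k (h1 hg))
    have h4 : g ∈ normalizer (centralizer (WI V ε i j : Set G) : Set G) := le_normalizer hg
    rw [mem_normalizer_iff]
    intro x
    rw [mem_inf, mem_inf, mem_normalizer_iff.1 h3 x, mem_normalizer_iff.1 h4 x]
  have hN : centralizer (W : Set G) ≤ normalizer (o2 (PM V ε k) : Set G) :=
    ((centralizer_le h.VW).trans (h.CV_le_PM k)).trans (le_normalizer_o2 _)
  intro x hx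
  obtain ⟨a, ha, b, hb, rfl⟩ := exists_mul_sup hN hx.1
  have h5 : a ∈ centralizer (WI V ε i j : Set G) := by
    have h7 : b ∈ centralizer (WI V ε i j : Set G) := h0 hb
    have h6 : a * b ∈ centralizer (WI V ε i j : Set G) := hx.2
    exact (mul_mem_cancel_right h7).1 h6
  exact mul_mem (mem_sup_left (h2 ⟨ha, h5⟩)) (mem_sup_right hb)

/-- elements of `X_ij` normalise `P_ij` -/
theorem norm_PP (h : Fr V W ε) {i j : Fin n} (hi : i ≠ 0) (hj : j ≠ 0) (hij : i ≠ j) {x : G}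
    (hx : x ∈ YG ε {i, j}) : MulAut.conj x • PP V W ε i j = PP V W ε i j := by
  rw [← cj_PP, cj_eq_of_mem (h.YG_norm hi hj hij hx), PP, WI_eq hx, PP]

/-- atoms of `QQ_k(s)` centralising `W_ij` are in `P_ij`, `s ∈ V^{X_ij}` -/
theorem le_PP (h : Fr V W ε) {i j k : Fin n} (hi : i ≠ 0) (hj : j ≠ 0) (hij : i ≠ j) {x : G}
    (hx : x ∈ YG ε {i, j}) {A : Subgroup G} (hA : A ≤ QQ (MulAut.conj x • V) W (cε x ε) k)
    (hAc : A ≤ centralizer (WI V ε i j : Set G)) : A ≤ PP V W ε i j := by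
  have hxW : MulAut.conj x • W = W := cj_eq_of_mem (h.YG_norm hi hj hij hx)
  have h1 : A ≤ MulAut.conj x • QQ V W ε k := by
    rw [← cj_QQ, hxW]
    exact hA
  have h2 : MulAut.conj x • centralizer (WI V ε i j : Set G) = centralizer (WI V ε i j : Set G) := by
    have h : x ∈ normalizer (WI V ε i j : Set G) := le_normalizer_Cl V _ hx
    rw [← cj_centralizer', cj_eq_of_mem h]
  have h3 : MulAut.conj x⁻¹ • A ≤ QQ V W ε k ⊓ centralizer (WI V ε i j : Set G) := by
    refine le_inf ?_ ?_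
    · have h4 := cj_mono (g := x⁻¹) h1
      rwa [cj_inv_cj] at h4
    · have h4 := cj_mono (g := x⁻¹) hAc
      rw [← h2, cj_inv_cj] at h4
      exact h4
  have h5 := cj_mono (g := x) (h3.trans (h.QQ_inf_le k hi hj hij))
  rw [cj_cj_inv, h.norm_PP hi hj hij hx] at h5
  exact h5

/-- `E` normalises all atoms of all `QQ_k(s)`: the end -/
theorem end_of (h : Fr V W ε) (hN : NrmS W) (hEnd : EndS V W ε) {i j : Fin n} (hi : i ≠ 0) (hj : j ≠ 0)
    (hij : i ≠ j) (hno : NOv W (PP V W ε i j)) (hE : At W E) (hOV : E ≤ OV V W)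
    (hmv : ¬ E ≤ centralizer (WI V ε i j : Set G))
    (hH0 : ∀ x ∈ YG ε {i, j}, ∀ k : Fin n, k ≠ 0 → ∀ A : Subgroup G, At W A →
      A ≤ QQ (MulAut.conj x • V) W (cε x ε) k → A ≤ centralizer (WI V ε i j : Set G))
    (hc : ∀ x ∈ YG ε {i, j}, ∀ k : Fin n, k ≠ 0 → ∀ A : Subgroup G, At W A →
      A ≤ QQ (MulAut.conj x • V) W (cε x ε) k → ∀ e ∈ E, ∀ w ∈ W, e * w * e⁻¹ * w⁻¹ ∈ centralizer (A : Set G)) :
    False := by
  have hEY : E ≤ YG ε {i, j} := (hOV.trans h.OV_le).trans (centralizer_le_YG h.ev _)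
  refine hEnd E i j hE hOV hi hj hij hmv fun x hx k hk e he => ?_
  have key : ∀ A : Subgroup G, At W A → A ≤ QQ (MulAut.conj x • V) W (cε x ε) k → MulAut.conj e • A = A := by
    intro A hA hAQ
    have h1 : A ≤ PP V W ε i j := h.le_PP hi hj hij hx hAQ (hH0 x hx k hk A hA hAQ)
    refine hN A _ e hA hno h1 ?_ (h.YG_norm hi hj hij (hEY he)) (hc x hx k hk A hA hAQ e he)
    rw [← h.norm_PP hi hj hij (hEY he)]
    exact cj_mono h1
  refine mem_norm_of_cj (le_antisymm ?_ ?_)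
  · have h3 : AA (MulAut.conj x • V) W (cε x ε) k ≤
        MulAut.conj e⁻¹ • AA (MulAut.conj x • V) W (cε x ε) k := by
      refine sSup_le fun A hA => ?_
      have h2 : MulAut.conj e⁻¹ • MulAut.conj e • A ≤ MulAut.conj e⁻¹ • AA (MulAut.conj x • V) W (cε x ε) k := by
        rw [key A hA.1 hA.2]
        exact cj_mono (le_sSup hA)
      rwa [cj_inv_cj] at h2
    have h4 := cj_mono (g := e) h3
    rwa [cj_cj_inv] at h4
  · refine sSup_le fun A hA => ?_
    rw [← key A hA.1 hA.2]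
    exact cj_mono (le_sSup hA)

/-- **(4)** -/
theorem four (h : Fr V W ε) (hN : NrmS W) (hEnd : EndS V W ε) {Γ : Finset (Fin n)} {i j : Fin n} (hiΓ : i ∈ Γ)
    (hjΓ : j ∈ Γ) (hi : i ≠ 0) (hj : j ≠ 0) (hij : i ≠ j) (hno : NOv W (PP V W ε i j)) (hE : At W E)
    (hOV : E ≤ OV V W) (hmv : ¬ E ≤ centralizer (WI V ε i j : Set G))
    (hH0 : ∀ x ∈ YG ε {i, j}, ∀ k : Fin n, k ≠ 0 → ∀ A : Subgroup G, At W A →
      A ≤ QQ (MulAut.conj x • V) W (cε x ε) k → A ≤ centralizer (WI (MulAut.conj x • V) (cε x ε) i j : Set G))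
    (hU : ∀ x ∈ YG ε {i, j}, ∀ k : Fin n, k ≠ 0 → ∀ A : Subgroup G, At W A →
      A ≤ QQ (MulAut.conj x • V) W (cε x ε) k → A ≤ centralizer (PU (MulAut.conj x • V) (cε x ε) Γ : Set G))
    (hcm : ∀ e ∈ E, ∀ w ∈ W, e * w * e⁻¹ * w⁻¹ ∈ PU V ε Γ) : False := by
  refine h.end_of hN hEnd hi hj hij hno hE hOV hmv ?_ ?_
  · intro x hx k hk A hA hAQ
    have h1 := hH0 x hx k hk A hA hAQ
    rwa [WI_eq hx] at h1
  · intro x hx k hk A hA hAQ e he w hw
    have h1 := hU x hx k hk A hA hAQ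
    rw [PU_eq hiΓ hjΓ hij hx] at h1
    refine mem_centralizer_iff.2 fun a ha => ?_
    exact (mem_centralizer_iff.1 (h1 ha) _ (hcm e he w hw)).symm

/-- **(5)** -/
theorem five (hML : ML.Final.MLK.{u, u}) (h : Fr V W ε) (hN : NrmS W) (hEnd : EndS V W ε) {i j : Fin n}
    (hi : i ≠ 0) (hj : j ≠ 0) (hij : i ≠ j) (hno : NOv W (PP V W ε i j)) (hE : At W E) (hOV : E ≤ OV V W)
    (hmv : ¬ E ≤ centralizer (WI V ε i j : Set G))
    (hH0 : ∀ x ∈ YG ε {i, j}, ∀ k : Fin n, k ≠ 0 → ∀ A : Subgroup G, At W A →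
      A ≤ QQ (MulAut.conj x • V) W (cε x ε) k → A ≤ centralizer (WI (MulAut.conj x • V) (cε x ε) i j : Set G))
    (hNC : ∀ x ∈ YG ε {i, j}, ∀ e ∈ E, e ∈ normalizer ((MulAut.conj x • V : Subgroup G) : Set G) →
      e ∈ centralizer ((MulAut.conj x • V : Subgroup G) : Set G)) : False := by
  have hUW : WI V ε i j ≤ W := h.WI_le hi hj hij
  have hKU : centralizer (W : Set G) ≤ centralizer (WI V ε i j : Set G) := centralizer_le hUW
  have hKV : centralizer (W : Set G) ≤ centralizer (V : Set G) := centralizer_le h.VW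
  -- `E = E₁ C(W)`
  set E₁ : Subgroup G := E ⊓ o2 (centralizer (V : Set G)) with hE₁
  have hEE : ∀ e ∈ E, ∃ a ∈ E₁, ∃ b ∈ centralizer (W : Set G), e = a * b := by
    intro e he
    obtain ⟨a, ha, b, hb, rfl⟩ := exists_mul_sup (A := o2 (centralizer (V : Set G))) (B := centralizer (W : Set G))
      (hKV.trans (le_normalizer_o2 _)) (hOV he)
    exact ⟨a, ⟨(mul_mem_cancel_right (hE.le hb)).1 he, ha⟩, b, hb, rfl⟩
  have hsup : E = E₁ ⊔ centralizer (W : Set G) := by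
    refine le_antisymm (fun e he => ?_) (sup_le inf_le_left hE.le)
    obtain ⟨a, ha, b, hb, rfl⟩ := hEE e he
    exact mul_mem (mem_sup_left ha) (mem_sup_right hb)
  have hVG : VG ε {i, j} ≤ V := VG_le h.ev _
  -- `(ML)` on `W_ij / V_ij`
  have hml : (centralizer (WI V ε i j : Set G)).relIndex E₁ ≤ (centralizer (E₁ : Set G)).relIndex (WI V ε i j) := by
    refine pair_ml hML h.ev h.n3 hij (h.kX hi hj) (fun a ha b hb => h.Wc a (hUW ha) b (hUW hb))
      (fun a ha => h.Ws a (hUW ha)) (h.syl {i, j} ?_) inf_le_right (fun a ha => hKU (hE.el.sq a ha.1)) ?_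
    · simp only [Finset.mem_insert, Finset.mem_singleton, not_or]
      exact ⟨hi.symm, hj.symm⟩
    · intro a ha hfix
      have key : ∀ x ∈ YG ε {i, j}, a ∈ centralizer ((MulAut.conj x • V : Subgroup G) : Set G) := by
        intro x hx
        refine hNC x hx a ha.1 (mem_normalizer_of_map_le ?_)
        rintro _ ⟨v, hv, rfl⟩
        change a * v * a⁻¹ ∈ MulAut.conj x • V
        have h1 : v ∈ WI V ε i j := by
          have h2 : x⁻¹ * v * x ∈ V := mem_cj.1 hv
          have h3 : v = x * (x⁻¹ * v * x) * x⁻¹ := by group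
          rw [h3]
          exact conj_mem_Cl hx h2
        have h2 : VG ε {i, j} ≤ MulAut.conj x • V := by
          intro y hy
          have h3 : x * y * x⁻¹ = y := by rw [← mem_centralizer_iff.1 hx y hy, mul_inv_cancel_right]
          rw [← h3]
          exact cj_mem (hVG hy)
        have h4 := mul_mem (h2 (hfix v h1)) hv
        rwa [inv_mul_cancel_right] at h4
      rw [mem_centralizer_iff]
      have h5 : WI V ε i j ≤ centralizer ({a} : Set G) := by
        rw [WI, Cl, closure_le]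
        rintro _ ⟨x, hx, v, hv, rfl⟩
        rw [SetLike.mem_coe, mem_centralizer_singleton_iff]
        exact mem_centralizer_iff.1 (key x hx) _ (cj_mem hv)
      intro u hu
      exact mem_centralizer_singleton_iff.1 (h5 hu)
  -- transfer to `E`
  have hcE : WI V ε i j ⊓ centralizer (E₁ : Set G) ≤ centralizer (E : Set G) := by
    rintro u ⟨hu, hu2⟩
    refine mem_centralizer_iff.2 fun e he => ?_
    obtain ⟨a, ha, b, hb, rfl⟩ := hEE e he
    have h1 := mem_centralizer_iff.1 hu2 a ha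
    have h2 := mem_centralizer_iff.1 hb u (hUW hu)
    rw [mul_assoc, ← h2, ← mul_assoc, h1, mul_assoc]
  have hind : (centralizer (WI V ε i j : Set G)).relIndex E ≤ (centralizer (E : Set G)).relIndex (WI V ε i j) := by
    have e1 : (centralizer (WI V ε i j : Set G)).relIndex E ≤ (centralizer (WI V ε i j : Set G)).relIndex E₁ :=
      relIndex_le_of_mul inf_le_left fun e he => by
        obtain ⟨a, ha, b, hb, rfl⟩ := hEE e he
        exact ⟨a, ha, b, hKU hb, rfl⟩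
    have e2 : (centralizer (E : Set G)).relIndex (WI V ε i j) = (centralizer (E₁ : Set G)).relIndex (WI V ε i j) := by
      rw [← inf_relIndex_right (centralizer (E : Set G)), ← inf_relIndex_right (centralizer (E₁ : Set G))]
      congr 1
      refine le_antisymm (inf_le_inf_right _ (centralizer_le inf_le_left)) (le_inf ?_ inf_le_right)
      rw [inf_comm]
      exact hcE
    rw [e2]
    exact e1.trans hml
  have hex := (exact_of hUW hE.le le_rfl (fun B h1 h2 => (hE.min B h1 h2).trans_eq hE.tight.symm) hE.tight hmv hind).2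
  have hcm : ∀ e ∈ E, ∀ w ∈ W, e * w * e⁻¹ * w⁻¹ ∈ WI V ε i j := by
    obtain ⟨C, hC⟩ := exists_cm h.Wc hUW E
    have hWC : W ≤ C := by
      refine hex.trans (sup_le ?_ ?_)
      · intro u hu
        refine (hC u).2 ⟨hUW hu, fun e he => ?_⟩
        have hn : e ∈ normalizer (WI V ε i j : Set G) :=
          le_normalizer_Cl V _ (centralizer_le_YG h.ev _ (h.OV_le (hOV he)))
        exact mul_mem ((mem_normalizer_iff.1 hn u).1 hu) (inv_mem hu)
      · rintro w ⟨hw, hw2⟩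
        refine (hC w).2 ⟨hw, fun e he => ?_⟩
        rw [mem_centralizer_iff.1 hw2 e he, mul_inv_cancel_right, mul_inv_cancel]
        exact one_mem _
    exact fun e he w hw => ((hC w).1 (hWC hw)).2 e he
  refine h.end_of hN hEnd hi hj hij hno hE hOV hmv ?_ ?_
  · intro x hx k hk A hA hAQ
    have h1 := hH0 x hx k hk A hA hAQ
    rwa [WI_eq hx] at h1
  · intro x hx k hk A hA hAQ e he w hw
    have h1 := hH0 x hx k hk A hA hAQ
    rw [WI_eq hx] at h1
    refine mem_centralizer_iff.2 fun a ha => ?_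
    exact (mem_centralizer_iff.1 (h1 ha) _ (hcm e he w hw)).symm

end Fr

end Cfsg.Agent.Omega.NO3S.SN.RTwo
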